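import Groth.Prelude.Def_AnHol
import Groth.Agent.Ega4C.FlatLocal
import Mathlib.Geometry.RingedSpace.Stalks
import Mathlib.AlgebraicGeometry.Morphisms.FiniteType

/-!
# Cohen-Macaulayness along a flat local homomorphism whose closed fibre is a field
-/

set_option autoImplicit false

universe u

open CategoryTheory AlgebraicGeometry Topology TopologicalSpace

namespace Groth.Agent.Gaga.H985.CMOfFlat

open IsLocalRing LocCoh

/-- a field is a Cohen-Macaulay local ring. -/
theorem isCM_of_isField {K : Type u} [CommRing K] (hK : IsField K) :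
    IsCohenMacaulayLocalRing K := by
  have hloc : IsLocalRing K := by
    let := hK.toField
    infer_instance
  have hN : IsNoetherianRing K := by
    let := hK.toField
    infer_instance
  rw [Groth.Agent.Ega4C.FlatLocal.isCM_iff_depth]
  have h1 := Groth.Agent.Ega4C.FlatLocal.depth_le_ringKrullDim K
  have h2 : ringKrullDim K = 0 := by
    let := hK.toField
    exact ringKrullDim_eq_zero_of_field K
  rw [h2] at h1 ⊢
  refine le_antisymm ?_ h1
  norm_cast
  exact zero_le

/-- `φ : A → B` flat local, `A`, `B` Noetherian local, `𝔪_A B = 𝔪_B`: `A` is CM iff `B` is. -/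
theorem isCM_iff_of_map_eq (A B : Type u) [CommRing A] [CommRing B] [IsLocalRing A] [IsLocalRing B]
    [IsNoetherianRing A] [IsNoetherianRing B] (φ : A →+* B) (hflat : φ.Flat)
    (hm : (maximalIdeal A).map φ = maximalIdeal B) :
    IsCohenMacaulayLocalRing A ↔ IsCohenMacaulayLocalRing B := by
  let : Algebra A B := φ.toAlgebra
  have hφ : algebraMap A B = φ := rfl
  have hl : IsLocalHom (algebraMap A B) :=
    ((local_hom_TFAE (algebraMap A B)).out 0 2 rfl rfl).mpr hm.le
  have hf : Module.Flat A B := hflat
  have hfib : IsCohenMacaulayLocalRing (EGA4.FibRing A B) := by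
    apply isCM_of_isField
    have : EGA4.mB A B = maximalIdeal B := hm
    change IsField (B ⧸ EGA4.mB A B)
    rw [this]
    exact (Ideal.Quotient.maximal_ideal_iff_isField_quotient _).mp (maximalIdeal.isMaximal B)
  rw [Groth.Agent.Ega4C.FlatLocal.isCM_iff A B]
  exact ⟨fun h => ⟨h, hfib⟩, fun h => h.1⟩

/-- The conditional form of S4319: from S4313 (flatness), S4314 (a) (the ideal generated by the
maximal ideal is the unique maximal ideal) and Noetherianity of the ring of holomorphic germs. -/
theorem isCM_stalk_iff (X : Scheme.{0}) [X.Over An.SC] [LocallyOfFiniteType (X ↘ An.SC)]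
    (x : An.Pts X)
    (hN : IsNoetherianRing ↑((An.anSpace X).presheaf.stalk x))
    (hflat : (PresheafedSpace.Hom.stalkMap (An.anToScheme X) x).hom.Flat)
    (hmax : ((maximalIdeal (X.presheaf.stalk x.pt)).map
        (PresheafedSpace.Hom.stalkMap (An.anToScheme X) x).hom).IsMaximal)
    (huniq : ∀ I : Ideal ((An.anSpace X).presheaf.stalk x), I.IsMaximal →
        I = (maximalIdeal (X.presheaf.stalk x.pt)).map
          (PresheafedSpace.Hom.stalkMap (An.anToScheme X) x).hom) :
    IsCohenMacaulayLocalRing ↑(X.presheaf.stalk x.pt) ↔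
      IsCohenMacaulayLocalRing ↑((An.anSpace X).presheaf.stalk x) := by
  have hloc : IsLocalRing ↑((An.anSpace X).presheaf.stalk x) :=
    IsLocalRing.of_unique_max_ideal ⟨_, hmax, fun I hI => huniq I hI⟩
  have hX : IsLocallyNoetherian X := by
    have : IsLocallyNoetherian An.SC := inferInstance
    exact LocallyOfFiniteType.isLocallyNoetherian (X ↘ An.SC)
  have hNA : IsNoetherianRing ↑(X.presheaf.stalk x.pt) := inferInstance
  exact isCM_iff_of_map_eq _ _ (PresheafedSpace.Hom.stalkMap (An.anToScheme X) x).hom hflat
    (huniq _ (maximalIdeal.isMaximal _)).symm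

end Groth.Agent.Gaga.H985.CMOfFlat
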